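import Groth.Agent.WeakAss.Basic
import Groth.Agent.QCoh.Support
import Groth.Agent.QCoh.Stalk
import Groth.Agent.QCoh.Extension
import Groth.Prelude.Def_CurvBase

/-!
# Associated and weakly associated points
-/

universe u

open CategoryTheory AlgebraicGeometry TopologicalSpace

set_option backward.isDefEq.respectTransparency false
set_option backward.isDefEq.respectTransparency.types false

namespace Groth.Agent.AssPtX

open Groth.Agent

theorem radical_eq_maximalIdeal_iff {R : Type*} [CommRing R] [IsLocalRing R] (I : Ideal R) :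
    I.radical = IsLocalRing.maximalIdeal R ↔ IsLocalRing.maximalIdeal R ∈ I.minimalPrimes := by
  constructor
  · intro h
    refine ⟨⟨inferInstance, h ▸ Ideal.le_radical⟩, fun q hq _ => ?_⟩
    rw [← h]
    exact hq.1.radical_le_iff.2 hq.2
  · intro h
    refine le_antisymm ((Ideal.IsPrime.radical_le_iff h.1.1).2 h.1.2) ?_
    rw [Ideal.radical_eq_sInf]
    refine le_sInf fun q hq => ?_
    exact h.2 ⟨hq.2, hq.1⟩ (IsLocalRing.le_maximalIdeal hq.2.ne_top)

theorem ker_toSpanSingleton {R M : Type*} [CommRing R] [AddCommGroup M] [Module R M] (m : M) :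
    LinearMap.ker (LinearMap.toSpanSingleton R M m) = WeakAss.annEl R m := by
  ext r
  rw [WeakAss.mem_annEl]
  rfl

theorem colon_bot_singleton {R M : Type*} [CommRing R] [AddCommGroup M] [Module R M] (m : M) :
    (⊥ : Submodule R M).colon {m} = WeakAss.annEl R m := by
  ext r
  rw [WeakAss.mem_annEl, Submodule.mem_colon_singleton, Submodule.mem_bot]

variable {X : Scheme.{u}} {F G : X.Modules} {U : X.Opens} {x : X}

theorem isWeakAssPoint_iff : Curv2.IsWeakAssPoint F x ↔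
    IsLocalRing.maximalIdeal (X.presheaf.stalk x) ∈
      FlatCA.weakAss (X.presheaf.stalk x) (F.presheaf.stalk x) := by
  rw [WeakAss.mem_weakAss_iff]
  refine exists_congr fun m => ?_
  rw [ker_toSpanSingleton, radical_eq_maximalIdeal_iff]

theorem isAssPoint_iff : Curv2.IsAssPoint F x ↔ Curv2.IsWeakAssPoint F x := by
  constructor
  · rintro ⟨-, m, hm⟩
    exact ⟨m, by rw [ker_toSpanSingleton, ← colon_bot_singleton]; exact hm.symm⟩
  · rintro ⟨m, hm⟩
    exact ⟨inferInstance, m, by rw [colon_bot_singleton, ← ker_toSpanSingleton]; exact hm.symm⟩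

theorem isWeakAssPoint_iff_sections (hF : Coh.IsQCoh F) (hU : IsAffineOpen U) (hx : x ∈ U) :
    Curv2.IsWeakAssPoint F x ↔ (hU.primeIdealOf ⟨x, hx⟩).asIdeal ∈ FlatCA.weakAss Γ(X, U) Γ(F, U) := by
  letI := QCoh.stalkAlg (X := X) hx
  letI := QCoh.stalkModule F hx
  haveI := QCoh.isScalarTower_stalk F hx
  haveI := QCoh.isLocalization_stalk' hU hx
  haveI := QCoh.isLocalizedModule_germLin hF hU hx
  rw [isWeakAssPoint_iff, WeakAss.mem_weakAss_iff_map (hU.primeIdealOf ⟨x, hx⟩).asIdeal.primeCompl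
    (R' := X.presheaf.stalk x) (QCoh.germLin F hx)
    (Set.disjoint_left.2 fun _ h h' => h h'),
    IsLocalization.AtPrime.map_eq_maximalIdeal]

/-- The point of a weakly associated prime of sections. -/
theorem exists_isWeakAssPoint (hF : Coh.IsQCoh F) (hU : IsAffineOpen U) {p : Ideal Γ(X, U)}
    (hp : p ∈ FlatCA.weakAss Γ(X, U) Γ(F, U)) :
    ∃ (y : X) (hy : y ∈ U), (hU.primeIdealOf ⟨y, hy⟩).asIdeal = p ∧ Curv2.IsWeakAssPoint F y := by
  have hpr : p.IsPrime := by obtain ⟨m, hm⟩ := hp; exact hm.1.1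
  obtain ⟨y, hy, hyp⟩ := QCoh.exists_point hU ⟨p, hpr⟩
  have : (hU.primeIdealOf ⟨y, hy⟩).asIdeal = p := by rw [hyp]
  exact ⟨y, hy, this, (isWeakAssPoint_iff_sections hF hU hy).2 (this ▸ hp)⟩

/-- A section is zero when its germs at weakly associated points are zero. -/
theorem eq_zero_of_germ (hF : Coh.IsQCoh F) (s : Γ(F, U))
    (h : ∀ (y : X) (hy : y ∈ U), Curv2.IsWeakAssPoint F y → F.presheaf.germ U y hy s = 0) : s = 0 := by
  refine QCoh.eq_zero_of_locally U s fun p hp => ?_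
  obtain ⟨V, hV, hpV, hVU⟩ := exists_isAffineOpen_mem_and_subset hp
  have hVU' : V ≤ U := hVU
  refine ⟨V, homOfLE hVU', hpV, ?_⟩
  by_contra hne
  let t : Γ(F, V) := F.presheaf.map (homOfLE hVU').op s
  have hI : WeakAss.annEl Γ(X, V) t ≠ ⊤ := fun hc => by
    have h1 : (1 : Γ(X, V)) • t = 0 := WeakAss.mem_annEl.1 (hc ▸ Submodule.mem_top)
    rw [one_smul] at h1
    exact hne h1
  obtain ⟨P, hP⟩ := Ideal.nonempty_minimalPrimes hI
  obtain ⟨y, hy, hyP, hya⟩ := exists_isWeakAssPoint hF hV (WeakAss.mem_weakAss_iff.2 ⟨_, hP⟩)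
  have h0 : F.presheaf.germ V y hy t = 0 :=
    (F.presheaf.germ_res_apply (homOfLE hVU') y hy s).trans (h y (hVU' hy) hya)
  obtain ⟨f, hyf, hf⟩ := (QCoh.germ_eq_zero_iff hF hV hy _).1 h0
  refine (QCoh.mem_basicOpen_iff_notMem hV hy f).1 hyf ?_
  rw [hyP]
  exact hP.1.2 (WeakAss.mem_annEl.2 hf)

theorem restrict_injective (hF : Coh.IsQCoh F) {V W : X.Opens} (hWV : W ≤ V)
    (h : ∀ y ∈ V, Curv2.IsWeakAssPoint F y → y ∈ W) :
    Function.Injective (F.presheaf.map (homOfLE hWV).op) := by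
  refine (injective_iff_map_eq_zero (F.presheaf.map (homOfLE hWV).op).hom).2 fun s hs => ?_
  refine eq_zero_of_germ hF s fun y hy hya => ?_
  rw [← F.presheaf.germ_res_apply (homOfLE hWV) y (h y hy hya) s, hs, map_zero]

theorem mono_of_stalk (φ : F ⟶ G) (hF : Coh.IsQCoh F)
    (h : ∀ x : X, Function.Injective ((TopCat.Presheaf.stalkFunctor AddCommGrpCat.{u} x).map
      (Scheme.Modules.Hom.mapPresheaf φ)) ∨ ¬ Curv2.IsWeakAssPoint F x) : Mono φ := by
  refine QCoh.mono_of_app_injective φ fun U => ?_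
  refine (injective_iff_map_eq_zero (φ.app U).hom).2 fun s hs => ?_
  refine eq_zero_of_germ hF s fun y hy hya => ?_
  have hy' := (h y).resolve_right (not_not_intro hya)
  refine hy' ?_
  rw [map_zero, TopCat.Presheaf.stalkFunctor_map_germ_apply]
  exact (congrArg _ hs).trans (map_zero _)

theorem mem_support_of_isWeakAssPoint (h : Curv2.IsWeakAssPoint F x) : x ∈ CohB1.support F := fun hss => by
  have h' := isWeakAssPoint_iff.1 h
  rw [WeakAss.weakAss_eq_empty_iff.2 hss] at h'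
  exact h'

theorem isZero_iff (hF : Coh.IsQCoh F) : Limits.IsZero F ↔ ∀ x : X, ¬ Curv2.IsWeakAssPoint F x := by
  constructor
  · intro h x hx
    refine mem_support_of_isWeakAssPoint hx ⟨fun a b => ?_⟩
    have hsec : ∀ (W : X.Opens) (s : Γ(F, W)), s = 0 := fun W s => by
      have := congr(($(h.eq_of_src (𝟙 F) 0)).app W s)
      exact this
    obtain ⟨W, hW, s, rfl⟩ := TopCat.Presheaf.exists_germ_eq F.presheaf a
    obtain ⟨W', hW', t, rfl⟩ := TopCat.Presheaf.exists_germ_eq F.presheaf b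
    rw [hsec W s, hsec W' t, map_zero, map_zero]
  · intro h
    rw [Limits.IsZero.iff_id_eq_zero]
    refine Scheme.Modules.hom_ext _ _ fun W => ?_
    ext s
    exact (eq_zero_of_germ hF s fun y _ hy => absurd hy (h y)).trans
      (eq_zero_of_germ hF (0 : Γ(F, W)) fun y _ hy => absurd hy (h y)).symm

theorem primeIdealOf_le_iff (hU : IsAffineOpen U) {y z : X} (hy : y ∈ U) (hz : z ∈ U) :
    (hU.primeIdealOf ⟨y, hy⟩).asIdeal ≤ (hU.primeIdealOf ⟨z, hz⟩).asIdeal ↔ y ⤳ z := by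
  rw [PrimeSpectrum.asIdeal_le_asIdeal, PrimeSpectrum.le_iff_specializes,
    ← hU.fromSpec.isOpenEmbedding.isInducing.specializes_iff, hU.fromSpec_primeIdealOf,
    hU.fromSpec_primeIdealOf]

theorem isWeakAssPoint_of_maximal (hF : Coh.IsQCoh F) (hx : x ∈ CohB1.support F)
    (hmax : ∀ y : X, y ∈ CohB1.support F → y ⤳ x → y = x) : Curv2.IsWeakAssPoint F x := by
  obtain ⟨V, hV, hxV, -⟩ := exists_isAffineOpen_mem_and_subset (x := x) (U := ⊤) trivial
  obtain ⟨m, hm⟩ := (QCoh.mem_support_iff hF hV hxV).1 hx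
  have hle : WeakAss.annEl Γ(X, V) m ≤ (hV.primeIdealOf ⟨x, hxV⟩).asIdeal := fun r hr => by
    by_contra hr'
    exact hm r ((QCoh.mem_basicOpen_iff_notMem hV hxV r).2 hr') (WeakAss.mem_annEl.1 hr)
  obtain ⟨P, hP, hPle⟩ := Ideal.exists_minimalPrimes_le hle
  obtain ⟨y, hy, hyP, hya⟩ := exists_isWeakAssPoint hF hV (WeakAss.mem_weakAss_iff.2 ⟨m, hP⟩)
  have hyx : y ⤳ x := (primeIdealOf_le_iff hV hy hxV).1 (hyP ▸ hPle)
  exact hmax y (mem_support_of_isWeakAssPoint hya) hyx ▸ hya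

theorem of_shortExact (S : ShortComplex X.Modules) (hS : S.ShortExact) (h₁ : Coh.IsQCoh S.X₁)
    (h₂ : Coh.IsQCoh S.X₂) (h₃ : Coh.IsQCoh S.X₃) (x : X) :
    (Curv2.IsWeakAssPoint S.X₂ x → Curv2.IsWeakAssPoint S.X₁ x ∨ Curv2.IsWeakAssPoint S.X₃ x) ∧
      (Curv2.IsWeakAssPoint S.X₁ x → Curv2.IsWeakAssPoint S.X₂ x) := by
  obtain ⟨V, hV, hxV, -⟩ := exists_isAffineOpen_mem_and_subset (x := x) (U := ⊤) trivial
  rw [isWeakAssPoint_iff_sections h₁ hV hxV, isWeakAssPoint_iff_sections h₂ hV hxV,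
    isWeakAssPoint_iff_sections h₃ hV hxV]
  haveI := hS.mono_f
  let f : Γ(S.X₁, V) →ₗ[Γ(X, V)] Γ(S.X₂, V) :=
    { toFun := S.f.app V, map_add' := map_add _, map_smul' := fun r s => Scheme.Modules.Hom.app_smul S.f r s }
  let g : Γ(S.X₂, V) →ₗ[Γ(X, V)] Γ(S.X₃, V) :=
    { toFun := S.g.app V, map_add' := map_add _, map_smul' := fun r s => Scheme.Modules.Hom.app_smul S.g r s }
  have hf : Function.Injective f := fun a b hab => by
    refine sub_eq_zero.1 (eq_zero_of_germ h₁ (a - b) fun y hy _ => ?_)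
    have h0 : S.f.app V (a - b) = 0 := by rw [map_sub]; exact sub_eq_zero.2 hab
    have : a - b = 0 := QCoh.app_injective S.f V (by rw [h0, map_zero])
    rw [this, map_zero]
  have hfg : Function.Exact f g := fun b => ⟨fun hb => QCoh.exists_app_f_eq hS V b hb, by
    rintro ⟨a, rfl⟩
    exact congr(($(S.zero)).app V a)⟩
  exact ⟨fun h => WeakAss.weakAss_subset_union_of_exact f g hf hfg h,
    fun h => WeakAss.weakAss_subset_of_injective f hf h⟩

theorem weakAss_reduced {A : Type*} [CommRing A] [IsReduced A] {p : Ideal A} (hp : p ∈ FlatCA.weakAss A A) :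
    p ∈ minimalPrimes A := by
  obtain ⟨m, hm⟩ := hp
  have hpr := hm.1.1
  refine ⟨⟨hpr, bot_le⟩, fun q hq hqp => ?_⟩
  intro a ha
  obtain ⟨s, hs, n, hn⟩ := WeakAss.exists_mul_pow_mem hm ha
  have h0 : s * a * m = 0 := by
    have h1 : s * a ^ n * m = 0 := WeakAss.mem_annEl.1 hn
    refine IsReduced.eq_zero _ ⟨n + 1, ?_⟩
    calc (s * a * m) ^ (n + 1) = (s * a ^ n * m) * (a * s ^ n * m ^ n) := by ring
      _ = 0 := by rw [h1, zero_mul]
  by_contra haq
  have hmq : m ∈ q := by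
    refine (hq.1.mem_or_mem (h0 ▸ q.zero_mem : s * a * m ∈ q)).resolve_left fun h => ?_
    exact (hq.1.mem_or_mem h).elim (fun h => hs (hqp h)) haq
  -- then `m` lies in every prime contained in `p`, hence is killed by something outside `p`
  have hall : ∀ r : Ideal A, r.IsPrime → m ∈ r ∨ ¬ r ≤ p := fun r hr => by
    by_contra hc
    push Not at hc
    have hrp : p ≤ r := hm.2 ⟨hr, fun b hb => (hr.mem_or_mem (show b * m ∈ r by
      rw [show b * m = b • m from rfl, WeakAss.mem_annEl.1 hb]; exact r.zero_mem)).resolve_right hc.1⟩ hc.2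
    exact hc.1 (hrp (hqp hmq))
  have hdisj : ¬ Disjoint ((⊥ : Ideal A) : Set A) ((p.primeCompl ⊔ Submonoid.powers m : Submonoid A) : Set A) := by
    intro hd
    obtain ⟨r, hr, -, hrd⟩ := Ideal.exists_le_prime_disjoint ⊥ _ hd
    rcases hall r hr with hmr | hrp
    · exact Set.disjoint_left.1 hrd hmr (Submonoid.mem_sup_right (Submonoid.mem_powers m))
    · obtain ⟨b, hbr, hbp⟩ := Set.not_subset.1 hrp
      exact Set.disjoint_left.1 hrd hbr (Submonoid.mem_sup_left hbp)
  obtain ⟨z, hz0, hz⟩ := Set.not_disjoint_iff.1 hdisj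
  obtain ⟨t, ht, _, ⟨k, rfl⟩, htk⟩ := Submonoid.mem_sup.1 hz
  have h0' : t * m ^ k = 0 := htk.trans (Ideal.mem_bot.1 hz0)
  have htm : t * m = 0 := IsReduced.eq_zero _ ⟨k + 1, by
    calc (t * m) ^ (k + 1) = (t * m ^ k) * (t ^ k * m) := by ring
      _ = 0 := by rw [h0', zero_mul]⟩
  exact ht (hm.1.2 (WeakAss.mem_annEl.2 htm))

theorem isWeakAssPoint_structureModule_iff [IsReduced X] (hO : Coh.IsQCoh (Coh.structureModule X)) (x : X) :
    Curv2.IsWeakAssPoint (Coh.structureModule X) x ↔ ∀ y : X, y ⤳ x → y = x := by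
  refine ⟨fun h y hyx => ?_, fun h => isWeakAssPoint_of_maximal hO ?_ fun y _ hy => h y hy⟩
  · obtain ⟨V, hV, hxV, -⟩ := exists_isAffineOpen_mem_and_subset (x := x) (U := ⊤) trivial
    have hyV : y ∈ V := hyx.mem_open V.2 hxV
    have h1 : (hV.primeIdealOf ⟨x, hxV⟩).asIdeal ∈ minimalPrimes Γ(X, V) :=
      weakAss_reduced ((isWeakAssPoint_iff_sections hO hV hxV).1 h)
    have h2 := h1.2 ⟨(hV.primeIdealOf ⟨y, hyV⟩).isPrime, bot_le⟩ ((primeIdealOf_le_iff hV hyV hxV).2 hyx)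
    exact ((primeIdealOf_le_iff hV hxV hyV).1 h2).antisymm hyx |>.eq.symm
  · intro hss
    obtain ⟨V, hV, hxV, -⟩ := exists_isAffineOpen_mem_and_subset (x := x) (U := ⊤) trivial
    obtain ⟨f, hf, hf'⟩ := (QCoh.subsingleton_stalk_iff hO hV hxV).1 hss
      (show Γ(Coh.structureModule X, V) from (1 : Γ(X, V)))
    have : f = 0 := (mul_one f).symm.trans hf'
    rw [this, Scheme.basicOpen_zero] at hf
    exact hf

end Groth.Agent.AssPtX
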