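import Groth.Agent.AssPtX.Basic
import Groth.Agent.QCoh.VanIdeal
import Groth.Agent.QCoh.Qcqs
import Groth.Prelude.Def_MeroSh
import Groth.Prelude.Def_CInt
import Mathlib.RingTheory.Ideal.AssociatedPrime.Finiteness
import Mathlib.AlgebraicGeometry.Noetherian

/-!
# Associated points: Noetherian schemes, affine schemes, affine morphisms
-/

universe u

open CategoryTheory AlgebraicGeometry TopologicalSpace

set_option backward.isDefEq.respectTransparency false
set_option backward.isDefEq.respectTransparency.types false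

namespace Groth.Agent.AssPtX

open Groth.Agent

variable {X : Scheme.{u}} {F : X.Modules} {U : X.Opens} {x : X}

theorem weakAss_subset_associatedPrimes {A M : Type*} [CommRing A] [IsNoetherianRing A] [AddCommGroup M]
    [Module A M] : FlatCA.weakAss A M ⊆ associatedPrimes A M := by
  intro p hp
  obtain ⟨hpr, m, hm⟩ := WeakAss.mem_ass_of_mem_weakAss_of_fg (IsNoetherian.noetherian p) hp
  exact isAssociatedPrime_iff.2 ⟨hpr, m, by rw [colon_bot_singleton]; exact hm⟩

theorem finite_assPoints [IsLocallyNoetherian X] (hF : Coh.IsCoh F) {U : X.Opens} (hU : IsCompact (U : Set X)) :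
    {x : X | x ∈ U ∧ Curv2.IsAssPoint F x}.Finite := by
  choose V hV hxV _ using fun z : X => exists_isAffineOpen_mem_and_subset (x := z) (U := ⊤) trivial
  obtain ⟨S, hS⟩ := hU.elim_finite_subcover (fun z : X => (V z : Set X)) (fun z => (V z).2)
    (fun z _ => Set.mem_iUnion.2 ⟨z, hxV z⟩)
  refine Set.Finite.subset (S.finite_toSet.biUnion fun z _ => ?_ :
    (⋃ z ∈ (S : Set X), {x : X | x ∈ V z ∧ Curv2.IsAssPoint F x}).Finite) fun x ⟨hxU, hxa⟩ => by
    obtain ⟨z, hz, hxz⟩ := Set.mem_iUnion₂.1 (hS hxU)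
    exact Set.mem_iUnion₂.2 ⟨z, hz, hxz, hxa⟩
  haveI : IsNoetherianRing Γ(X, V z) := IsLocallyNoetherian.component_noetherian ⟨_, hV z⟩
  haveI := QCoh.finite_sections hF (hV z)
  refine Set.Finite.subset (((associatedPrimes.finite Γ(X, V z) Γ(F, V z)).preimage
    (f := fun P : PrimeSpectrum Γ(X, V z) => P.asIdeal) (fun P _ Q _ h => PrimeSpectrum.ext h)).image
    (hV z).fromSpec) fun y ⟨hy, hya⟩ => ⟨(hV z).primeIdealOf ⟨y, hy⟩, ?_, (hV z).fromSpec_primeIdealOf ⟨y, hy⟩⟩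
  exact weakAss_subset_associatedPrimes
    ((isWeakAssPoint_iff_sections hF.1 (hV z) hy).1 (isAssPoint_iff.1 hya))

theorem isSchematicallyDense_iff [IsLocallyNoetherian X] (U : X.Opens) :
    CInt.IsSchematicallyDense U ↔ ∀ x : X,
      IsAssociatedPrime (IsLocalRing.maximalIdeal (X.presheaf.stalk x)) (X.presheaf.stalk x) → x ∈ U := by
  have hO : Coh.IsQCoh (Coh.structureModule X) := QCoh.isQCoh_structureModule
  have hiff : ∀ x : X, IsAssociatedPrime (IsLocalRing.maximalIdeal (X.presheaf.stalk x)) (X.presheaf.stalk x) ↔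
      Curv2.IsWeakAssPoint (Coh.structureModule X) x := fun x => by
    obtain ⟨V, hV, hxV, -⟩ := exists_isAffineOpen_mem_and_subset (x := x) (U := ⊤) trivial
    letI := QCoh.stalkAlg (X := X) hxV
    haveI := QCoh.isLocalization_stalk' hV hxV
    haveI : IsLocalizedModule (hV.primeIdealOf ⟨x, hxV⟩).asIdeal.primeCompl
        (Algebra.linearMap Γ(X, V) (X.presheaf.stalk x)) := inferInstance
    have h1 := WeakAss.mem_weakAss_iff_map (hV.primeIdealOf ⟨x, hxV⟩).asIdeal.primeCompl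
      (R' := X.presheaf.stalk x) (Algebra.linearMap Γ(X, V) (X.presheaf.stalk x))
      (p := (hV.primeIdealOf ⟨x, hxV⟩).asIdeal) (Set.disjoint_left.2 fun _ h h' => h h')
    rw [IsLocalization.AtPrime.map_eq_maximalIdeal] at h1
    rw [isWeakAssPoint_iff_sections hO hV hxV]
    refine Iff.trans ?_ h1.symm
    rw [WeakAss.mem_weakAss_iff]
    constructor
    · rintro ⟨-, m, hm⟩
      exact ⟨m, (radical_eq_maximalIdeal_iff _).1 (by rw [← colon_bot_singleton]; exact hm.symm)⟩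
    · rintro ⟨m, hm⟩
      exact ⟨inferInstance, m, by rw [colon_bot_singleton]; exact ((radical_eq_maximalIdeal_iff _).2 hm).symm⟩
  constructor
  · intro h x hx
    by_contra hxU
    obtain ⟨V, hV, hxV, -⟩ := exists_isAffineOpen_mem_and_subset (x := x) (U := ⊤) trivial
    haveI : IsNoetherianRing Γ(X, V) := IsLocallyNoetherian.component_noetherian ⟨_, hV⟩
    obtain ⟨hpr, t, ht⟩ := WeakAss.mem_ass_of_mem_weakAss_of_fg (IsNoetherian.noetherian _)
      ((isWeakAssPoint_iff_sections hO hV hxV).1 ((hiff x).1 hx))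
    have ht0 : t = 0 := by
      refine (injective_iff_map_eq_zero (X.presheaf.map (homOfLE (inf_le_left : V ⊓ U ≤ V)).op).hom).1 (h V) t ?_
      show X.presheaf.map (homOfLE (inf_le_left : V ⊓ U ≤ V)).op (QCoh.toFn t) = 0
      refine TopCat.Presheaf.section_ext X.sheaf (V ⊓ U) _ 0 fun y hy => ?_
      rw [map_zero]
      show X.presheaf.germ (V ⊓ U) y hy (X.presheaf.map (homOfLE inf_le_left).op (QCoh.toFn t)) = 0
      rw [X.presheaf.germ_res_apply]
      have hnle : ¬ (hV.primeIdealOf ⟨x, hxV⟩).asIdeal ≤ (hV.primeIdealOf ⟨y, hy.1⟩).asIdeal := fun hle =>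
        hxU (((primeIdealOf_le_iff hV hxV hy.1).1 hle).mem_open U.2 hy.2)
      obtain ⟨f, hf, hfy⟩ := Set.not_subset.1 hnle
      have hu : IsUnit (X.presheaf.germ V y hy.1 f) :=
        (X.mem_basicOpen f y hy.1).1 ((QCoh.mem_basicOpen_iff_notMem hV hy.1 f).2 hfy)
      have hft : f * QCoh.toFn t = 0 := WeakAss.mem_annEl.1 (ht ▸ hf)
      refine hu.mul_left_cancel ?_
      rw [← map_mul, hft, map_zero, mul_zero]
    refine hpr.ne_top ?_
    rw [ht, ht0]
    exact top_unique fun r _ => WeakAss.mem_annEl.2 (smul_zero r)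
  · intro h V
    exact restrict_injective hO inf_le_left fun y hy hya => ⟨hy, h y ((hiff y).2 hya)⟩

theorem regStalk_eq [IsLocallyNoetherian X] (x : X) :
    Mero.regStalk X x = nonZeroDivisors (X.presheaf.stalk x) := by
  refine le_antisymm (Mero.regStalk_le_nonZeroDivisors x) fun g hg => ?_
  obtain ⟨V, hV, hxV, -⟩ := exists_isAffineOpen_mem_and_subset (x := x) (U := ⊤) trivial
  haveI : IsNoetherianRing Γ(X, V) := IsLocallyNoetherian.component_noetherian ⟨_, hV⟩
  haveI := hV.isLocalization_stalk ⟨x, hxV⟩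
  letI := QCoh.stalkAlg (X := X) hxV
  haveI := QCoh.isLocalization_stalk' hV hxV
  obtain ⟨⟨f, ⟨s, hs⟩⟩, hfs⟩ := IsLocalization.surj (hV.primeIdealOf ⟨x, hxV⟩).asIdeal.primeCompl g
  let P := (hV.primeIdealOf ⟨x, hxV⟩).asIdeal
  have hfin : (associatedPrimes Γ(X, V) Γ(X, V)).Finite := associatedPrimes.finite _ _
  obtain ⟨h, hh, hhP⟩ : ∃ h : Γ(X, V), h ∉ P ∧ ∀ q ∈ associatedPrimes Γ(X, V) Γ(X, V), ¬ q ≤ P → h ∈ q := by
    classical
    have hex : ∀ q ∈ hfin.toFinset.filter (fun q => ¬ q ≤ P), ∃ c ∈ q, c ∉ P := fun q hq =>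
      Set.not_subset.1 (Finset.mem_filter.1 hq).2
    choose! c hc hcP using hex
    refine ⟨∏ q ∈ hfin.toFinset.filter (fun q => ¬ q ≤ P), c q, fun hmem => ?_, fun q hq hqP => ?_⟩
    · obtain ⟨q, hq, hqc⟩ := Ideal.IsPrime.prod_mem_iff.1 hmem
      exact hcP q hq hqc
    · exact Ideal.prod_mem _ (Finset.mem_filter.2 ⟨hfin.mem_toFinset.2 hq, hqP⟩)
        (hc q (Finset.mem_filter.2 ⟨hfin.mem_toFinset.2 hq, hqP⟩))
  have hfreg : ∀ q ∈ associatedPrimes Γ(X, V) Γ(X, V), q ≤ P → f ∉ q := by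
    intro q hq hqP hfq
    obtain ⟨hqpr, m, hm⟩ := isAssociatedPrime_iff.1 hq
    rw [colon_bot_singleton] at hm
    have h0 : f * m = 0 := WeakAss.mem_annEl.1 (hm ▸ hfq)
    have hgm : algebraMap Γ(X, V) (X.presheaf.stalk x) m = 0 := by
      have h1 : algebraMap Γ(X, V) (X.presheaf.stalk x) f * algebraMap Γ(X, V) (X.presheaf.stalk x) m = 0 := by
        rw [← map_mul, h0, map_zero]
      rw [← hfs, mul_comm g, mul_assoc] at h1
      have h2 := (IsLocalization.map_units (X.presheaf.stalk x) (⟨s, hs⟩ :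
        (hV.primeIdealOf ⟨x, hxV⟩).asIdeal.primeCompl)).mul_right_eq_zero.1 h1
      exact mem_nonZeroDivisors_iff_right.1 hg _ (by rw [mul_comm]; exact h2)
    obtain ⟨⟨r, hr⟩, hrm⟩ := (IsLocalization.map_eq_zero_iff (hV.primeIdealOf ⟨x, hxV⟩).asIdeal.primeCompl _ _).1 hgm
    exact hr (hqP (hm ▸ WeakAss.mem_annEl.2 hrm))
  let W := X.basicOpen h ⊓ X.basicOpen s
  have hW : W ≤ V := inf_le_left.trans (X.basicOpen_le h)
  have hxh : x ∈ X.basicOpen h := (QCoh.mem_basicOpen_iff_notMem hV hxV h).2 hh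
  have hxs : x ∈ X.basicOpen s := (QCoh.mem_basicOpen_iff_notMem hV hxV s).2 hs
  have hu : IsUnit (X.presheaf.map (homOfLE hW).op s) := by
    have h1 : IsUnit (X.presheaf.map (homOfLE (X.basicOpen_le s)).op s) := X.toRingedSpace.isUnit_res_basicOpen s
    have h2 := h1.map (X.presheaf.map (homOfLE (inf_le_right : W ≤ X.basicOpen s)).op).hom
    rwa [← CommRingCat.comp_apply, ← Functor.map_comp] at h2
  refine ⟨W, ⟨hxh, hxs⟩, X.presheaf.map (homOfLE hW).op f * hu.unit⁻¹.val, ?_, ?_⟩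
  · refine Submonoid.mul_mem _ (fun y => ?_) fun y => ?_
    · rw [X.presheaf.germ_res_apply, mem_nonZeroDivisors_iff_right]
      intro b hb
      by_contra hb0
      have hyV : y.1 ∈ V := hW y.2
      letI := QCoh.stalkAlg (X := X) hyV
      haveI := QCoh.isLocalization_stalk' hV hyV
      obtain ⟨⟨m, ⟨t, ht⟩⟩, hmt⟩ := IsLocalization.surj (hV.primeIdealOf ⟨y.1, hyV⟩).asIdeal.primeCompl b
      have h1 : algebraMap Γ(X, V) (X.presheaf.stalk y.1) (f * m) = 0 := by
        rw [map_mul, ← hmt, ← mul_assoc, mul_comm (algebraMap _ _ f) b]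
        exact mul_eq_zero_of_left hb _
      obtain ⟨⟨c, hc⟩, hcfm⟩ := (IsLocalization.map_eq_zero_iff (hV.primeIdealOf ⟨y.1, hyV⟩).asIdeal.primeCompl _ _).1 h1
      have hle : WeakAss.annEl Γ(X, V) (c * m) ≤ (hV.primeIdealOf ⟨y.1, hyV⟩).asIdeal := by
        intro r hr
        by_contra hr'
        refine hb0 ?_
        have h2 : r * c * m = 0 := by rw [mul_assoc]; exact WeakAss.mem_annEl.1 hr
        have h3 : algebraMap Γ(X, V) (X.presheaf.stalk y.1) m = 0 :=
          (IsLocalization.map_eq_zero_iff (hV.primeIdealOf ⟨y.1, hyV⟩).asIdeal.primeCompl _ _).2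
            ⟨⟨r * c, Submonoid.mul_mem _ hr' hc⟩, h2⟩
        rw [← hmt] at h3
        exact (IsLocalization.map_units (X.presheaf.stalk y.1) (⟨t, ht⟩ :
          (hV.primeIdealOf ⟨y.1, hyV⟩).asIdeal.primeCompl)).mul_left_eq_zero.1 h3
      obtain ⟨q, hq, hqy⟩ := Ideal.exists_minimalPrimes_le hle
      have hqa : q ∈ associatedPrimes Γ(X, V) Γ(X, V) :=
        weakAss_subset_associatedPrimes (WeakAss.mem_weakAss_iff.2 ⟨_, hq⟩)
      have hfq : f ∈ q := hq.1.2 (WeakAss.mem_annEl.2 (by rw [smul_eq_mul, mul_left_comm]; exact hcfm))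
      refine hfreg q hqa ?_ hfq
      by_contra hqP
      exact (QCoh.mem_basicOpen_iff_notMem hV hyV h).1 y.2.1 (hqy (hhP q hqa hqP))
    · exact IsUnit.mem_nonZeroDivisors ((hu.unit⁻¹).isUnit.map _)
  · have hsu : IsUnit (X.presheaf.germ V x hxV s) := (X.mem_basicOpen s x hxV).1 hxs
    refine hsu.mul_left_cancel ?_
    rw [map_mul, X.presheaf.germ_res_apply, mul_comm (X.presheaf.germ V x hxV s) g,
      show g * X.presheaf.germ V x hxV s = X.presheaf.germ V x hxV f from hfs, mul_left_comm,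
      ← X.presheaf.germ_res_apply (homOfLE hW) x ⟨hxh, hxs⟩ s, ← map_mul, IsUnit.mul_val_inv, map_one, mul_one]

theorem mem_weakAss_equiv {R S M N : Type*} [CommRing R] [CommRing S] [AddCommGroup M] [Module R M]
    [AddCommGroup N] [Module S N] (σ : R ≃+* S) (e : M ≃+ N) (he : ∀ r m, e (r • m) = σ r • e m)
    (p : Ideal S) : p ∈ FlatCA.weakAss S N ↔ p.comap σ.toRingHom ∈ FlatCA.weakAss R M := by
  have key : ∀ m, WeakAss.annEl R m = (WeakAss.annEl S (e m)).comap σ.toRingHom := fun m => by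
    ext r
    rw [Ideal.mem_comap, WeakAss.mem_annEl, WeakAss.mem_annEl]
    show _ ↔ σ r • e m = 0
    rw [← he, map_eq_zero_iff e e.injective]
  rw [WeakAss.mem_weakAss_iff, WeakAss.mem_weakAss_iff, e.surjective.exists]
  refine exists_congr fun m => ?_
  rw [key, Ideal.comap_minimalPrimes_eq_of_surjective σ.surjective]
  exact ⟨fun h => ⟨p, h, rfl⟩, fun ⟨q, hq, hqp⟩ =>
    Ideal.comap_injective_of_surjective _ σ.surjective hqp ▸ hq⟩

theorem isWeakAssPoint_tilde_iff (A : CommRingCat.{u}) (M : ModuleCat.{u} A) (p : Spec A) :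
    Curv2.IsWeakAssPoint (tilde M) p ↔ p.asIdeal ∈ FlatCA.weakAss A M := by
  have hq : Coh.IsQCoh (tilde M) := inferInstanceAs ((tilde M).IsQuasicoherent)
  let U : (Spec A).Opens := ⊤
  rw [isWeakAssPoint_iff_sections hq (isAffineOpen_top (Spec A)) (show p ∈ U from trivial)]
  let σ : A ≃+* Γ(Spec A, ⊤) := (Scheme.ΓSpecIso A).symm.commRingCatIsoToRingEquiv
  let e : M ≃+ Γ(tilde M, ⊤) := (tilde.isoTop M).toLinearEquiv.toAddEquiv
  rw [mem_weakAss_equiv σ e (fun r m => ?_)]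
  · have hpe : ((isAffineOpen_top (Spec A)).primeIdealOf ⟨p, trivial⟩).asIdeal.comap σ.toRingHom = p.asIdeal := by
      ext r
      rw [Ideal.mem_comap, ← not_iff_not,
        ← QCoh.mem_basicOpen_iff_notMem (isAffineOpen_top (Spec A)) (show p ∈ (⊤ : (Spec A).Opens) from trivial)]
      show p ∈ (Spec A).basicOpen ((Scheme.ΓSpecIso A).inv r) ↔ _
      rw [basicOpen_eq_of_affine]
      rfl
    rw [hpe]
  · show e (r • m) = _
    refine ((tilde.isoTop M).toLinearEquiv.map_smul r m).trans ?_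
    show r • (show Γ(tilde M, ⊤) from e m) = σ r • e m
    rw [Scheme.Modules.smul_Spec_def, show (⊤ : (Spec A).Opens).leTop = 𝟙 ⊤ from Subsingleton.elim _ _,
      op_id, (Spec A).presheaf.map_id]
    rfl

theorem exists_weakAssPoint_of_pushforward {S : Scheme.{u}} (f : X ⟶ S) [IsAffineHom f] (hF : Coh.IsQCoh F)
    (s : S) (hs : Curv2.IsWeakAssPoint ((Scheme.Modules.pushforward f).obj F) s) :
    ∃ x : X, f x = s ∧ Curv2.IsWeakAssPoint F x := by
  obtain ⟨V, hV, hsV, -⟩ := exists_isAffineOpen_mem_and_subset (x := s) (U := ⊤) trivial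
  have hW : IsAffineOpen (f ⁻¹ᵁ V) := hV.preimage f
  have hp := (isWeakAssPoint_iff_sections (QCoh.isQCoh_pushforward f hF) hV hsV).1 hs
  obtain ⟨n, hn⟩ := WeakAss.mem_weakAss_iff.1 hp
  let n' : Γ(F, f ⁻¹ᵁ V) := n
  have hann : WeakAss.annEl Γ(S, V) n = (WeakAss.annEl Γ(X, f ⁻¹ᵁ V) n').comap (f.app V).hom := by
    ext r
    rw [Ideal.mem_comap, WeakAss.mem_annEl, WeakAss.mem_annEl]
    exact Iff.rfl
  rw [hann] at hn
  obtain ⟨q, hq, hqle, hqp⟩ := Ideal.exists_comap_eq_of_mem_minimalPrimes _ _ hn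
  haveI := hq
  obtain ⟨q', hq', hq'le⟩ := Ideal.exists_minimalPrimes_le hqle
  obtain ⟨x, hx, hxq, hxa⟩ := exists_isWeakAssPoint hF hW (WeakAss.mem_weakAss_iff.2 ⟨n', hq'⟩)
  have hcomap : q'.comap (f.app V).hom = (hV.primeIdealOf ⟨s, hsV⟩).asIdeal := by
    haveI := hq'.1.1
    have h1 : q'.comap (f.app V).hom ≤ (hV.primeIdealOf ⟨s, hsV⟩).asIdeal := (Ideal.comap_mono hq'le).trans hqp.le
    exact le_antisymm h1 (hn.2 ⟨inferInstance, Ideal.comap_mono hq'.1.2⟩ h1)
  refine ⟨x, ?_, hxa⟩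
  have h1 := IsAffineOpen.comap_primeIdealOf_appLE V hV (f ⁻¹ᵁ V) hW le_rfl hx
  rw [Scheme.Hom.app_eq_appLE] at hcomap
  have h2 : hV.primeIdealOf ⟨f x, hx⟩ = hV.primeIdealOf ⟨s, hsV⟩ := by
    rw [← h1]
    refine PrimeSpectrum.ext ?_
    rw [← hcomap, ← hxq]
    rfl
  have h3 := congrArg hV.fromSpec h2
  rwa [hV.fromSpec_primeIdealOf, hV.fromSpec_primeIdealOf] at h3

end Groth.Agent.AssPtX
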