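import Groth.Agent.AssPtX.Basic
import Groth.Agent.QCoh.LocFree
import Groth.Agent.DimFormula.DedekindFlat
import Groth.Agent.H23.CoverPush

/-!
# Flatness over regular bases of dimension at most one and associated points
-/

set_option autoImplicit false
set_option linter.style.haveILetI false
set_option backward.isDefEq.respectTransparency false
set_option backward.isDefEq.respectTransparency.types false

universe u

open CategoryTheory AlgebraicGeometry TopologicalSpace Opposite

namespace Groth.Agent.AssPtX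

variable {X Y : Scheme.{u}}

/-- Weakly associated points of the structure sheaf, in terms of the local rings alone. -/
theorem isWeakAssPoint_unit_iff (x : X) : Curv2.IsWeakAssPoint (Coh.structureModule X) x ↔
    IsLocalRing.maximalIdeal (X.presheaf.stalk x) ∈
      FlatCA.weakAss (X.presheaf.stalk x) (X.presheaf.stalk x) := by
  obtain ⟨U, hU, hx, -⟩ := exists_isAffineOpen_mem_and_subset (X := X) (x := x) (U := ⊤) trivial
  letI := QCoh.stalkAlg (X := X) hx
  haveI := QCoh.isLocalization_stalk' hU hx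
  let P := (hU.primeIdealOf ⟨x, hx⟩).asIdeal
  haveI : IsLocalizedModule P.primeCompl (Algebra.linearMap Γ(X, U) (X.presheaf.stalk x)) :=
    (isLocalizedModule_iff_isLocalization' P.primeCompl (X.presheaf.stalk x)).2 inferInstance
  rw [isWeakAssPoint_iff_sections QCoh.isQCoh_structureModule hU hx]
  show P ∈ FlatCA.weakAss Γ(X, U) Γ(X, U) ↔ _
  rw [WeakAss.mem_weakAss_iff_map P.primeCompl (R' := X.presheaf.stalk x)
    (Algebra.linearMap Γ(X, U) (X.presheaf.stalk x)) (Set.disjoint_left.2 fun _ h h' => h h'),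
    IsLocalization.AtPrime.map_eq_maximalIdeal]

/-- A weakly associated prime of a local ring gives a weakly associated point. -/
theorem isWeakAssPoint_fromSpecStalk (x : X) {q : PrimeSpectrum (X.presheaf.stalk x)}
    (hq : q.asIdeal ∈ FlatCA.weakAss (X.presheaf.stalk x) (X.presheaf.stalk x)) :
    Curv2.IsWeakAssPoint (Coh.structureModule X) (X.fromSpecStalk x q) := by
  obtain ⟨U, hU, hx, -⟩ := exists_isAffineOpen_mem_and_subset (X := X) (x := x) (U := ⊤) trivial
  letI := QCoh.stalkAlg (X := X) hx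
  haveI := QCoh.isLocalization_stalk' hU hx
  let P := (hU.primeIdealOf ⟨x, hx⟩).asIdeal
  let r := PrimeSpectrum.comap (X.presheaf.germ U x hx).hom q
  have hy : X.fromSpecStalk x q = hU.fromSpec r := by
    rw [← hU.fromSpecStalk_eq_fromSpecStalk hx]
    rfl
  have hyU : X.fromSpecStalk x q ∈ U := by
    rw [hy]
    exact hU.range_fromSpec.le ⟨r, rfl⟩
  have hr : hU.primeIdealOf ⟨_, hyU⟩ = r := hU.fromSpec.isOpenEmbedding.injective (by
    rw [hU.fromSpec_primeIdealOf]
    exact hy)
  rw [isWeakAssPoint_iff_sections QCoh.isQCoh_structureModule hU hyU, hr]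
  show r.asIdeal ∈ FlatCA.weakAss Γ(X, U) Γ(X, U)
  haveI : IsLocalizedModule P.primeCompl (Algebra.linearMap Γ(X, U) (X.presheaf.stalk x)) :=
    (isLocalizedModule_iff_isLocalization' P.primeCompl (X.presheaf.stalk x)).2 inferInstance
  have hd : Disjoint (P.primeCompl : Set Γ(X, U)) (r.asIdeal : Set Γ(X, U)) :=
    Set.disjoint_left.2 fun a ha ha' =>
      q.isPrime.ne_top (Ideal.eq_top_of_isUnit_mem _ ha' (IsLocalization.map_units (X.presheaf.stalk x) ⟨a, ha⟩))
  rw [WeakAss.mem_weakAss_iff_map P.primeCompl (R' := X.presheaf.stalk x)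
    (Algebra.linearMap Γ(X, U) (X.presheaf.stalk x)) hd]
  show Ideal.map (algebraMap Γ(X, U) (X.presheaf.stalk x)) (Ideal.comap (algebraMap Γ(X, U) (X.presheaf.stalk x)) q.asIdeal) ∈ _
  rw [IsLocalization.map_comap P.primeCompl (X.presheaf.stalk x)]
  exact hq

/-- If the associated points lie over points with a field as local ring, a morphism to a regular scheme of
dimension at most one is flat. -/
theorem flat_of_assPoints
    (hY : ∀ y : Y, IsRegularLocalRing (Y.presheaf.stalk y) ∧ ringKrullDim (Y.presheaf.stalk y) ≤ 1)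
    (f : X ⟶ Y)
    (h : ∀ x : X, Curv2.IsAssPoint (Coh.structureModule X) x → IsField (Y.presheaf.stalk (f x))) :
    Flat f := by
  refine Flat.of_stalkMap f fun x => ?_
  haveI := (hY (f x)).1
  haveI := RegLoc6.isDomain_of_isRegularLocalRing (Y.presheaf.stalk (f x))
  haveI := DimFormula.isPrincipalIdealRing_of_regular_dim_le_one (hY (f x)).2
  letI := (f.stalkMap x).hom.toAlgebra
  show Module.Flat (Y.presheaf.stalk (f x)) (X.presheaf.stalk x)
  rw [Module.Flat.flat_iff_torsion_eq_bot_of_isBezout, eq_bot_iff]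
  rintro b ⟨⟨a, ha⟩, hab⟩
  by_contra hb
  let α := algebraMap (Y.presheaf.stalk (f x)) (X.presheaf.stalk x) a
  have hα : α ∈ {r : X.presheaf.stalk x | ¬ IsSMulRegular (X.presheaf.stalk x) r} := fun hreg => by
    refine hb (hreg.right_eq_zero_of_smul ?_)
    show α * b = 0
    rw [← Algebra.smul_def]
    exact hab
  rw [← WeakAss.biUnion_weakAss] at hα
  obtain ⟨Q, hQ, hαQ⟩ := Set.mem_iUnion₂.1 hα
  have hQp : Q.IsPrime := by obtain ⟨m, hm⟩ := hQ; exact hm.1.1
  let q : PrimeSpectrum (X.presheaf.stalk x) := ⟨Q, hQp⟩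
  let y := X.fromSpecStalk x q
  have hfield := h y (isAssPoint_iff.2 (isWeakAssPoint_fromSpecStalk x hQ))
  let r := PrimeSpectrum.comap (f.stalkMap x).hom q
  have hfy : f y = Y.fromSpecStalk (f x) r := by
    show (X.fromSpecStalk x ≫ f) q = _
    rw [← Scheme.SpecMap_stalkMap_fromSpecStalk f]
    rfl
  have hra : a ∈ r.asIdeal := hαQ
  have hr : r = IsLocalRing.closedPoint (Y.presheaf.stalk (f x)) := PrimeSpectrum.ext
    (IsLocalRing.eq_maximalIdeal (r.isPrime.isMaximal_of_ne_bot fun h0 => by
      rw [h0, Ideal.mem_bot] at hra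
      exact nonZeroDivisors.ne_zero ha hra))
  rw [hr, Scheme.fromSpecStalk_closedPoint] at hfy
  rw [hfy] at hfield
  rw [hr] at hra
  refine nonZeroDivisors.ne_zero ha ?_
  have h0 := IsLocalRing.isField_iff_maximalIdeal_eq.1 hfield
  have : a ∈ IsLocalRing.maximalIdeal (Y.presheaf.stalk (f x)) := hra
  rwa [h0, Ideal.mem_bot] at this

/-- For a flat morphism to an irreducible scheme with domains as local rings, associated points lie over the
generic point. -/
theorem map_eq_genericPoint_of_flat [IrreducibleSpace Y] (hY : ∀ y : Y, IsDomain (Y.presheaf.stalk y))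
    (f : X ⟶ Y) [Flat f] (x : X) (hx : Curv2.IsAssPoint (Coh.structureModule X) x) :
    f x = genericPoint Y := by
  haveI := hY (f x)
  by_cases h0 : IsLocalRing.maximalIdeal (Y.presheaf.stalk (f x)) = ⊥
  · rw [← DimFormula.fromSpecStalk_bot (f x)]
    have : (⟨⊥, Ideal.isPrime_bot⟩ : PrimeSpectrum (Y.presheaf.stalk (f x))) =
        IsLocalRing.closedPoint (Y.presheaf.stalk (f x)) := PrimeSpectrum.ext h0.symm
    rw [this, Scheme.fromSpecStalk_closedPoint]
  exfalso
  obtain ⟨a, ha, ha0⟩ := Submodule.exists_mem_ne_zero_of_ne_bot h0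
  have hflat := Flat.stalkMap f x
  letI := (f.stalkMap x).hom.toAlgebra
  haveI : Module.Flat (Y.presheaf.stalk (f x)) (X.presheaf.stalk x) := hflat
  obtain ⟨m, hm⟩ := (isWeakAssPoint_unit_iff x).1 (isAssPoint_iff.1 hx)
  have hrad := (radical_eq_maximalIdeal_iff _).2 hm
  let α := algebraMap (Y.presheaf.stalk (f x)) (X.presheaf.stalk x) a
  have hα : α ∈ IsLocalRing.maximalIdeal (X.presheaf.stalk x) := by
    rw [IsLocalRing.mem_maximalIdeal] at ha ⊢
    exact fun hu => ha (isUnit_of_map_unit (f.stalkMap x).hom a hu)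
  rw [← hrad] at hα
  obtain ⟨n, hn⟩ := hα
  have h1 : (a ^ n) • m = 0 := by
    rw [← IsScalarTower.algebraMap_smul (X.presheaf.stalk x) (a ^ n) m, map_pow]
    exact (Submodule.mem_annihilator_span_singleton m _).1 hn
  have h2 : m = 0 :=
    (Module.Flat.isSMulRegular_of_nonZeroDivisors (mem_nonZeroDivisors_of_ne_zero (pow_ne_zero n ha0))).right_eq_zero_of_smul h1
  exact hm.1.1.ne_top (top_le_iff.1 (le_trans (by simp [h2, Submodule.annihilator_bot]) hm.1.2))

/-- The direct image of the structure sheaf along a finite locally free morphism is finite locally free. -/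
theorem isFinLocFree_push (f : X ⟶ Y) [IsFinite f] [Flat f] [LocallyOfFinitePresentation f] :
    FlatMod.IsFinLocFree ((Coh.push f).obj (Coh.structureModule X)) := by
  let M := (Scheme.Modules.pushforward f).obj (Coh.structureModule X)
  have hq : Coh.IsQCoh M := QCoh.isQCoh_pushforward f QCoh.isQCoh_structureModule
  show FlatMod.IsFinLocFree M
  intro y
  obtain ⟨U, hU, hy, -⟩ := exists_isAffineOpen_mem_and_subset (X := Y) (x := y) (U := ⊤) trivial
  letI := H23.CoverPush.alg f U
  have h := H23.CoverPush.isPullback_fromSpec f hU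
  haveI : IsFinite (Spec.map (f.app U)) := MorphismProperty.of_isPullback h.flip inferInstance
  haveI : Flat (Spec.map (f.app U)) := MorphismProperty.of_isPullback h.flip inferInstance
  haveI : LocallyOfFinitePresentation (Spec.map (f.app U)) := MorphismProperty.of_isPullback h.flip inferInstance
  haveI : Module.Finite Γ(Y, U) Γ(X, f ⁻¹ᵁ U) := (IsFinite.SpecMap_iff (f.app U)).mp inferInstance
  haveI : Module.Flat Γ(Y, U) Γ(X, f ⁻¹ᵁ U) := Flat.SpecMap_iff.mp (inferInstanceAs (Flat (Spec.map (f.app U))))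
  haveI : Algebra.FinitePresentation Γ(Y, U) Γ(X, f ⁻¹ᵁ U) :=
    (HasRingHomProperty.Spec_iff (P := @LocallyOfFinitePresentation)).mp
      (inferInstanceAs (LocallyOfFinitePresentation (Spec.map (f.app U))))
  haveI : Module.FinitePresentation Γ(Y, U) Γ(X, f ⁻¹ᵁ U) :=
    Module.FinitePresentation.of_finite_of_finitePresentation _ _
  have e0 : Γ(X, f ⁻¹ᵁ U) ≃ₗ[Γ(Y, U)] Γ(M, U) :=
    { toFun := fun x => x, invFun := fun x => x, left_inv := fun _ => rfl, right_inv := fun _ => rfl,
      map_add' := fun _ _ => rfl, map_smul' := fun _ _ => rfl }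
  haveI : Module.Finite Γ(Y, U) Γ(M, U) := Module.Finite.equiv e0
  haveI : Module.FinitePresentation Γ(Y, U) Γ(M, U) := Module.finitePresentation_of_surjective e0.toLinearMap e0.surjective (by
    rw [LinearEquiv.ker]; exact Submodule.fg_bot)
  haveI : Module.Flat Γ(Y, U) Γ(M, U) := Module.Flat.of_linearEquiv e0.symm
  let p := (hU.primeIdealOf ⟨y, hy⟩).asIdeal
  haveI : Module.Finite (Localization.AtPrime p) (LocalizedModule p.primeCompl Γ(M, U)) :=
    Module.Finite.of_isLocalizedModule p.primeCompl (LocalizedModule.mkLinearMap p.primeCompl Γ(M, U))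
  haveI : Module.Flat (Localization.AtPrime p) (LocalizedModule p.primeCompl Γ(M, U)) :=
    Module.Flat.localizedModule p.primeCompl
  haveI : Module.Free (Localization.AtPrime p) (LocalizedModule p.primeCompl Γ(M, U)) :=
    Module.free_of_flat_of_isLocalRing
  obtain ⟨r, hr, hfree, -⟩ := Module.FinitePresentation.exists_free_localizedModule_powers p.primeCompl
    (LocalizedModule.mkLinearMap p.primeCompl Γ(M, U)) (Localization.AtPrime p)
  obtain ⟨n, hn⟩ := QCoh.exists_free_nhd hq hU r hfree
  exact ⟨_, n, (QCoh.mem_basicOpen_iff_notMem hU hy r).2 hr, hn⟩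

end Groth.Agent.AssPtX
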