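import Groth.Agent.AssPtX.Noeth
import Groth.Agent.Triage.WeakAssFin

/-!
# Weakly associated points of pushforwards along affine morphisms
-/

universe u

open CategoryTheory AlgebraicGeometry TopologicalSpace

set_option backward.isDefEq.respectTransparency false
set_option backward.isDefEq.respectTransparency.types false

namespace Groth.Agent.AssPtX

open Groth.Agent

variable {X S : Scheme.{u}} {F : X.Modules}

theorem comap_primeIdealOf_app (f : X ⟶ S) [IsAffineHom f] {V : S.Opens} (hV : IsAffineOpen V) {x : X}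
    (hx : f x ∈ V) :
    ((hV.preimage f).primeIdealOf ⟨x, hx⟩).asIdeal.comap (f.app V).hom = (hV.primeIdealOf ⟨f x, hx⟩).asIdeal := by
  rw [← IsAffineOpen.comap_primeIdealOf_appLE V hV (f ⁻¹ᵁ V) (hV.preimage f) le_rfl hx, Scheme.Hom.app_eq_appLE]
  rfl

theorem isWeakAssPoint_pushforward (f : X ⟶ S) [IsAffineHom f] (hF : Coh.IsQCoh F) {V : S.Opens}
    (hV : IsAffineOpen V) {x : X} (hx : f x ∈ V) (n : Γ(F, f ⁻¹ᵁ V))
    (hn : (hV.primeIdealOf ⟨f x, hx⟩).asIdeal ∈
      ((WeakAss.annEl Γ(X, f ⁻¹ᵁ V) n).comap (f.app V).hom).minimalPrimes) :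
    Curv2.IsWeakAssPoint ((Scheme.Modules.pushforward f).obj F) (f x) := by
  rw [isWeakAssPoint_iff_sections (QCoh.isQCoh_pushforward f hF) hV hx]
  let n' : Γ((Scheme.Modules.pushforward f).obj F, V) := n
  refine WeakAss.mem_weakAss_iff.2 ⟨n', ?_⟩
  have hann : WeakAss.annEl Γ(S, V) n' = (WeakAss.annEl Γ(X, f ⁻¹ᵁ V) n).comap (f.app V).hom := by
    ext r
    rw [Ideal.mem_comap, WeakAss.mem_annEl, WeakAss.mem_annEl]
    exact Iff.rfl
  rwa [hann]

/-- Weakly associated points map to weakly associated points of the pushforward along a finite morphism. -/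
theorem isWeakAssPoint_pushforward_of_finite (f : X ⟶ S) [IsFinite f] (hF : Coh.IsQCoh F) {x : X}
    (h : Curv2.IsWeakAssPoint F x) : Curv2.IsWeakAssPoint ((Scheme.Modules.pushforward f).obj F) (f x) := by
  obtain ⟨V, hV, hx, -⟩ := exists_isAffineOpen_mem_and_subset (x := f x) (U := ⊤) trivial
  have hq := (isWeakAssPoint_iff_sections hF (hV.preimage f) (show x ∈ f ⁻¹ᵁ V from hx)).1 h
  letI : Algebra Γ(S, V) Γ(X, f ⁻¹ᵁ V) := (f.app V).hom.toAlgebra
  haveI : Module.Finite Γ(S, V) Γ(X, f ⁻¹ᵁ V) := f.finite_app V hV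
  haveI : ((hV.preimage f).primeIdealOf ⟨x, hx⟩).asIdeal.LiesOver (hV.primeIdealOf ⟨f x, hx⟩).asIdeal :=
    ⟨(comap_primeIdealOf_app f hV hx).symm⟩
  obtain ⟨n, hn⟩ := Triage.WeakAssFin.exists_minimal_under (p := (hV.primeIdealOf ⟨f x, hx⟩).asIdeal) hq
  exact isWeakAssPoint_pushforward f hF hV hx n hn

/-- On a locally Noetherian source weakly associated points map to weakly associated points. -/
theorem isWeakAssPoint_pushforward_of_noetherian (f : X ⟶ S) [IsAffineHom f] [IsLocallyNoetherian X]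
    (hF : Coh.IsQCoh F) {x : X} (h : Curv2.IsWeakAssPoint F x) :
    Curv2.IsWeakAssPoint ((Scheme.Modules.pushforward f).obj F) (f x) := by
  obtain ⟨V, hV, hx, -⟩ := exists_isAffineOpen_mem_and_subset (x := f x) (U := ⊤) trivial
  haveI : IsNoetherianRing Γ(X, f ⁻¹ᵁ V) := IsLocallyNoetherian.component_noetherian ⟨_, hV.preimage f⟩
  obtain ⟨-, m, hm⟩ := WeakAss.mem_ass_of_mem_weakAss_of_fg (IsNoetherian.noetherian _)
    ((isWeakAssPoint_iff_sections hF (hV.preimage f) (show x ∈ f ⁻¹ᵁ V from hx)).1 h)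
  refine isWeakAssPoint_pushforward f hF hV hx m ?_
  rw [show WeakAss.annEl Γ(X, f ⁻¹ᵁ V) m = _ from hm.symm, comap_primeIdealOf_app f hV hx]
  exact ⟨⟨inferInstance, le_rfl⟩, fun _ hp _ => hp.2⟩

theorem weakAssPoints_pushforward (f : X ⟶ S) [IsAffineHom f] (hF : Coh.IsQCoh F)
    (h : ∀ x, Curv2.IsWeakAssPoint F x → Curv2.IsWeakAssPoint ((Scheme.Modules.pushforward f).obj F) (f x)) :
    {s : S | Curv2.IsWeakAssPoint ((Scheme.Modules.pushforward f).obj F) s} =
      (fun x => f x) '' {x : X | Curv2.IsWeakAssPoint F x} := by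
  ext s
  constructor
  · intro hs
    obtain ⟨x, hxs, hx⟩ := exists_weakAssPoint_of_pushforward f hF s hs
    exact ⟨x, hx, hxs⟩
  · rintro ⟨x, hx, rfl⟩
    exact h x hx

end Groth.Agent.AssPtX
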