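import Groth.Agent.AssPtX.Noeth
import Mathlib.RingTheory.KrullDimension.Zero

/-!
# Regular sections and weakly associated points; pullback of regular sections
-/

universe u

open CategoryTheory AlgebraicGeometry TopologicalSpace

set_option backward.isDefEq.respectTransparency false
set_option backward.isDefEq.respectTransparency.types false

namespace Groth.Agent.AssPtX

open Groth.Agent

variable {X Y : Scheme.{u}}

/-- A nonzerodivisor at a point with no proper generization is a unit. -/
theorem isUnit_of_mem_nonZeroDivisors (y : Y) (hy : ∀ z : Y, z ⤳ y → z = y) {g : Y.presheaf.stalk y}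
    (hg : g ∈ nonZeroDivisors (Y.presheaf.stalk y)) : IsUnit g := by
  obtain ⟨V, hV, hyV, -⟩ := exists_isAffineOpen_mem_and_subset (x := y) (U := ⊤) trivial
  letI := QCoh.stalkAlg (X := Y) hyV
  haveI := QCoh.isLocalization_stalk' hV hyV
  by_contra hgu
  have hall : ∀ q : Ideal (Y.presheaf.stalk y), q.IsPrime → q = IsLocalRing.maximalIdeal _ := by
    intro q hq
    have hle := IsLocalRing.le_maximalIdeal hq.ne_top
    refine le_antisymm hle ?_
    obtain ⟨z, hz, hzq⟩ := QCoh.exists_point hV ⟨q.comap (algebraMap Γ(Y, V) _), Ideal.IsPrime.comap _⟩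
    have hzle : (hV.primeIdealOf ⟨z, hz⟩).asIdeal ≤ (hV.primeIdealOf ⟨y, hyV⟩).asIdeal := by
      rw [hzq, ← IsLocalization.AtPrime.comap_maximalIdeal (Y.presheaf.stalk y) (hV.primeIdealOf ⟨y, hyV⟩).asIdeal]
      exact Ideal.comap_mono hle
    have hzy := hy z ((primeIdealOf_le_iff hV hz hyV).1 hzle)
    subst hzy
    have h1 : q.comap (algebraMap Γ(Y, V) (Y.presheaf.stalk z)) = (hV.primeIdealOf ⟨z, hz⟩).asIdeal := by
      rw [hzq]
    conv_rhs => rw [← IsLocalization.map_comap (hV.primeIdealOf ⟨z, hz⟩).asIdeal.primeCompl _ q]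
    rw [Ideal.under, h1]
    exact (IsLocalization.AtPrime.map_eq_maximalIdeal _ _).ge
  have hnil : IsNilpotent g := by
    rw [← mem_nilradical, nilradical_eq_sInf, Submodule.mem_sInf]
    intro q hq
    rw [hall q hq]
    exact hgu
  obtain ⟨n, hn⟩ := hnil
  exact nonZeroDivisors.ne_zero (pow_mem hg n) hn

/-- A section regular at all weakly associated generizations is regular. -/
theorem germ_mem_nonZeroDivisors_of_weakAss {U : X.Opens} (t : Γ(X, U))
    (h : ∀ (z : X) (hz : z ∈ U), Curv2.IsWeakAssPoint (Coh.structureModule X) z →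
      IsUnit (X.presheaf.germ U z hz t)) : t ∈ Mero.regSub X U := by
  intro y
  rw [mem_nonZeroDivisors_iff_right]
  intro b hb
  obtain ⟨V, hyV, r, rfl⟩ := X.presheaf.exists_germ_eq (x := y.1) b
  rw [← X.presheaf.germ_res_apply (homOfLE (inf_le_left : V ⊓ U ≤ V)) y.1 ⟨hyV, y.2⟩,
    ← X.presheaf.germ_res_apply (homOfLE (inf_le_right : V ⊓ U ≤ U)) y.1 ⟨hyV, y.2⟩, ← map_mul] at hb
  have hyVU : y.1 ∈ V ⊓ U := ⟨hyV, y.2⟩
  obtain ⟨W, hyW, i, j, hW⟩ := TopCat.Presheaf.germ_eq X.presheaf y.1 hyVU hyVU _ 0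
    (hb.trans (map_zero _).symm)
  have hWV : W ≤ V := i.le.trans inf_le_left
  have hWU : W ≤ U := i.le.trans inf_le_right
  rw [← X.presheaf.germ_res_apply (homOfLE hWV) y.1 hyW r]
  have hr : (show Γ(Coh.structureModule X, W) from X.presheaf.map (homOfLE hWV).op r) = 0 := by
    refine eq_zero_of_germ QCoh.isQCoh_structureModule _ fun z hz hza => ?_
    have h1 : X.presheaf.germ W z hz (X.presheaf.map (homOfLE hWV).op r) = 0 := by
      have h2 := congrArg (X.presheaf.germ W z hz) hW
      rw [X.presheaf.germ_res_apply, X.presheaf.germ_res_apply, map_zero, map_mul,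
        X.presheaf.germ_res_apply, X.presheaf.germ_res_apply] at h2
      rw [X.presheaf.germ_res_apply]
      exact (h z (hWU hz) hza).mul_left_eq_zero.1 h2
    obtain ⟨W', hzW', i', j', hW'⟩ := TopCat.Presheaf.germ_eq X.presheaf z hz hz _ 0
      (h1.trans (map_zero _).symm)
    rw [map_zero] at hW'
    rw [← (Coh.structureModule X).presheaf.germ_res_apply i' z hzW']
    exact (congrArg _ hW').trans (map_zero ((Coh.structureModule X).presheaf.germ W' z hzW').hom)
  exact (congrArg (X.presheaf.germ W y.1 hyW) hr).trans (map_zero _)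

/-- Pullback of regular sections. -/
theorem app_mem_regSub (f : X ⟶ Y)
    (h : ∀ x : X, Curv2.IsWeakAssPoint (Coh.structureModule X) x → ∀ y : Y, y ⤳ f x → y = f x)
    (U : Y.Opens) (s : Γ(Y, U)) (hs : s ∈ Mero.regSub Y U) : f.app U s ∈ Mero.regSub X (f ⁻¹ᵁ U) := by
  refine germ_mem_nonZeroDivisors_of_weakAss _ fun z hz hza => ?_
  have h1 : IsUnit (Y.presheaf.germ U (f z) hz s) :=
    isUnit_of_mem_nonZeroDivisors _ (h z hza) (hs ⟨f z, hz⟩)
  rw [← Scheme.Hom.germ_stalkMap_apply]
  exact h1.map _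

end Groth.Agent.AssPtX
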